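import Mathlib

/-! Subalgebras of a polynomial ring generated by degree-one monomials are graded by degree. -/

set_option autoImplicit false
universe u v w

namespace HomogenizeLib

open Polynomial DirectSum

variable (R : Type u) [CommRing R] {B : Type v} [CommRing B] [Algebra R B] {σ : Type w} (v : σ → B)

/-- The subalgebra generated by the monomials `v i • X`. -/
noncomputable abbrev homSub : Subalgebra R (Polynomial B) := Algebra.adjoin R (Set.range fun i => monomial 1 (v i))

/-- The degree-`d` part. -/
noncomputable def grade (d : ℕ) : Submodule R (homSub R v) :=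
  Submodule.comap (homSub R v).val.toLinearMap ((LinearMap.range (monomial (R := B) d)).restrictScalars R)

variable {R v}

theorem mem_grade {d : ℕ} {x : homSub R v} :
    x ∈ grade R v d ↔ ∃ b : B, monomial d b = (x : Polynomial B) := Iff.rfl

theorem coeff_mem (p : Polynomial B) (hp : p ∈ homSub R v) (d : ℕ) :
    monomial d (p.coeff d) ∈ homSub R v := by
  induction hp using Algebra.adjoin_induction generalizing d with
  | mem x hx =>
    obtain ⟨i, rfl⟩ := hx
    simp only [coeff_monomial]
    split_ifs with h
    · subst h; exact Algebra.subset_adjoin ⟨i, rfl⟩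
    · rw [map_zero]; exact zero_mem _
  | algebraMap r =>
    rw [Polynomial.algebraMap_apply, coeff_C]
    split_ifs with h
    · subst h
      rw [monomial_zero_left, ← Polynomial.algebraMap_apply]
      exact Subalgebra.algebraMap_mem _ r
    · rw [map_zero]; exact zero_mem _
  | add x y _ _ hx hy =>
    rw [coeff_add, map_add]
    exact add_mem (hx d) (hy d)
  | mul x y _ _ hx hy =>
    rw [coeff_mul, map_sum]
    refine sum_mem (fun c hc => ?_)
    rw [← Finset.HasAntidiagonal.mem_antidiagonal.1 hc, ← monomial_mul_monomial]
    exact mul_mem (hx c.1) (hy c.2)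

theorem coeff_zero_mem (p : Polynomial B) (hp : p ∈ homSub R v) :
    p.coeff 0 ∈ Set.range (algebraMap R B) := by
  induction hp using Algebra.adjoin_induction with
  | mem x hx =>
    obtain ⟨i, rfl⟩ := hx
    exact ⟨0, by rw [map_zero, coeff_monomial, if_neg one_ne_zero]⟩
  | algebraMap r => exact ⟨r, by rw [Polynomial.algebraMap_apply, coeff_C_zero]⟩
  | add x y _ _ hx hy =>
    obtain ⟨a, ha⟩ := hx; obtain ⟨b, hb⟩ := hy
    exact ⟨a + b, by rw [map_add, ha, hb, coeff_add]⟩
  | mul x y _ _ hx hy =>
    obtain ⟨a, ha⟩ := hx; obtain ⟨b, hb⟩ := hy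
    exact ⟨a * b, by rw [map_mul, ha, hb, mul_coeff_zero]⟩

theorem mem_grade_zero {x : homSub R v} (hx : x ∈ grade R v 0) :
    x ∈ Set.range (algebraMap R (homSub R v)) := by
  obtain ⟨b, hb⟩ := mem_grade.1 hx
  obtain ⟨r, hr⟩ := coeff_zero_mem _ x.2
  refine ⟨r, Subtype.ext ?_⟩
  rw [Subalgebra.coe_algebraMap, Polynomial.algebraMap_apply, hr, ← hb, monomial_zero_left, coeff_C_zero]

variable (R v)

/-- The homogeneous component, as an element of the degree-`d` part. -/
noncomputable def component (d : ℕ) (x : homSub R v) : grade R v d :=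
  ⟨⟨monomial d ((x : Polynomial B).coeff d), coeff_mem _ x.2 d⟩, _, rfl⟩

noncomputable instance gradedAlgebra : GradedAlgebra (grade R v) where
  one_mem := mem_grade.2 ⟨1, by simp⟩
  mul_mem := fun i j a b ha hb => by
    obtain ⟨p, hp⟩ := mem_grade.1 ha
    obtain ⟨q, hq⟩ := mem_grade.1 hb
    exact mem_grade.2 ⟨p * q, by rw [MulMemClass.coe_mul, ← hp, ← hq, monomial_mul_monomial]⟩
  decompose' := fun x => ∑ d ∈ (x : Polynomial B).support,
    DirectSum.of (fun i => grade R v i) d (component R v d x)
  left_inv := fun x => by
    rw [map_sum]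
    simp only [coeAddMonoidHom_of]
    refine Subtype.ext ?_
    rw [AddSubmonoidClass.coe_finsetSum]
    exact (Polynomial.as_sum_support _).symm
  right_inv := fun x => by
    have key : ∀ d, component R v d (DirectSum.coeAddMonoidHom (grade R v) x) = x d := by
      intro d
      refine Subtype.ext (Subtype.ext ?_)
      show monomial d _ = _
      induction x using DirectSum.induction_on with
      | zero => simp
      | of i a =>
        obtain ⟨b, hb⟩ := mem_grade.1 a.2
        rw [coeAddMonoidHom_of]
        by_cases h : i = d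
        · subst h
          rw [DirectSum.of_eq_same, ← hb, coeff_monomial, if_pos rfl]
        · rw [DirectSum.of_eq_of_ne _ _ _ (Ne.symm h), ← hb, coeff_monomial, if_neg h, map_zero]
          rfl
      | add x y hx hy =>
        rw [map_add, Subalgebra.coe_add, coeff_add, map_add, hx, hy]
        rfl
    refine DFinsupp.ext fun d => ?_
    rw [DFinsupp.finsetSum_apply, ← key d]
    by_cases hd : d ∈ ((DirectSum.coeAddMonoidHom (grade R v) x : homSub R v) : Polynomial B).support
    · rw [Finset.sum_eq_single d (fun b _ hb => DirectSum.of_eq_of_ne _ _ _ (Ne.symm hb))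
        (fun h => absurd hd h), DirectSum.of_eq_same]
    · rw [Finset.sum_eq_zero (fun b hb => DirectSum.of_eq_of_ne _ _ _ (fun e => hd (by rw [e]; exact hb)))]
      refine Subtype.ext (Subtype.ext ?_)
      show (0 : Polynomial B) = monomial d _
      rw [Polynomial.notMem_support_iff.1 hd, map_zero]

end HomogenizeLib
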